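import Groth.Agent.S9436
import Mathlib.Algebra.Category.Ring.Constructions
import Mathlib.RingTheory.RingHom.Etale

/-!
# Lifting an étale algebra along a surjection, as a pushout square (helper22)
-/

set_option autoImplicit false
universe u
open CategoryTheory CategoryTheory.Limits TensorProduct

namespace Groth.Agent.Lib.Helper22.NormalSplit

theorem exists_etale_lift_pushout {A Abar Bbar : CommRingCat.{u}} (a : A ⟶ Abar)
    (ha : Function.Surjective a.hom) (b : Abar ⟶ Bbar) (hb : b.hom.Etale) :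
    ∃ (B : CommRingCat.{u}) (c : A ⟶ B) (d : B ⟶ Bbar), c.hom.Etale ∧ IsPushout a c b d := by
  let I : Ideal A := RingHom.ker a.hom
  let q : (A ⧸ I) ≃+* Abar := RingHom.quotientKerEquivOfSurjective ha
  let ψ : (A ⧸ I) →+* Bbar := b.hom.comp q.toRingHom
  let _ : Algebra (A ⧸ I) Bbar := ψ.toAlgebra
  have hψ : ψ.Etale := RingHom.Etale.respectsIso.2 b.hom q hb
  have : Algebra.Etale (A ⧸ I) Bbar := hψ
  obtain ⟨B, _, _, hBet, ⟨θ⟩⟩ := Groth.Agent.S9436.result A I Bbar
  have h0 := CommRingCat.isPushout_tensorProduct A (A ⧸ I) B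
  let e₂ : CommRingCat.of (A ⧸ I) ≅ Abar := q.toCommRingCatIso
  let e₄ : CommRingCat.of ((A ⧸ I) ⊗[A] B) ≅ Bbar := θ.toRingEquiv.toCommRingCatIso
  refine ⟨CommRingCat.of B, CommRingCat.ofHom (algebraMap A B),
    CommRingCat.ofHom (θ.toRingEquiv.toRingHom.comp
      (Algebra.TensorProduct.includeRight (R := A) (A := A ⧸ I) (B := B)).toRingHom), ?_, ?_⟩
  · exact RingHom.etale_algebraMap.2 hBet
  · refine h0.of_iso (Iso.refl _) e₂ (Iso.refl _) e₄ ?_ ?_ ?_ ?_
    · ext x
      rfl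
    · rfl
    · apply CommRingCat.hom_ext
      apply RingHom.ext
      intro x
      change θ (x ⊗ₜ[A] (1 : B)) = b.hom (q x)
      have h1 : (x ⊗ₜ[A] (1 : B)) = algebraMap (A ⧸ I) ((A ⧸ I) ⊗[A] B) x := rfl
      rw [h1, θ.commutes]
      rfl
    · rfl

end Groth.Agent.Lib.Helper22.NormalSplit
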