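import Mathlib.AlgebraicGeometry.Limits
import Mathlib.AlgebraicGeometry.PullbackCarrier
import Mathlib.AlgebraicGeometry.Restrict

/-!
# Base change of a decomposition into opens (helper22)
-/

set_option autoImplicit false
universe u
open CategoryTheory CategoryTheory.Limits AlgebraicGeometry Opposite TopologicalSpace

namespace Groth.Agent.Lib.Helper22.NormalSplit

/-- The range of the first projection of a pullback square. -/
lemma range_fst_of_isPullback {P A B C : Scheme.{u}} {fst : P ⟶ A} {snd : P ⟶ B} {f : A ⟶ C}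
    {g : B ⟶ C} (h : IsPullback fst snd f g) : Set.range fst = f ⁻¹' Set.range g := by
  have e : h.isoPullback.hom ≫ pullback.fst f g = fst := h.isoPullback_hom_fst
  rw [← e, ← Scheme.Pullback.range_fst f g]
  have : Function.Surjective h.isoPullback.hom := h.isoPullback.hom.homeomorph.surjective
  change Set.range ((pullback.fst f g) ∘ h.isoPullback.hom) = _
  rw [Set.range_comp, this.range_eq, Set.image_univ]

open scoped Function in
/-- If `U` over `X` is a disjoint union of opens of `X`, then its base change `V` along `Z ⟶ X`,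
if quasi-compact, is a finite disjoint union of opens of `Z`. -/
theorem exists_finite_split_of_isPullback {V Z U X : Scheme.{u}} {φ : V ⟶ Z} {ψ : V ⟶ U}
    {i : Z ⟶ X} {g : U ⟶ X} (sq : IsPullback φ ψ i g) [CompactSpace V]
    (ι : Type u) (Vk : ι → X.Opens) (e : (∐ fun k => (Vk k : Scheme.{u})) ≅ U)
    (he : ∀ k, Sigma.ι (fun k => (Vk k : Scheme.{u})) k ≫ e.hom ≫ g = (Vk k).ι) :
    ∃ (ι' : Type u) (_ : Finite ι') (W : ι' → Z.Opens)
      (e' : (∐ fun k => (W k : Scheme.{u})) ≅ V),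
      ∀ k, Sigma.ι (fun k => (W k : Scheme.{u})) k ≫ e'.hom ≫ φ = (W k).ι := by
  classical
  let s : ∀ k, (Vk k : Scheme.{u}) ⟶ U := fun k => Sigma.ι (fun k => (Vk k : Scheme.{u})) k ≫ e.hom
  have hs : ∀ k, s k ≫ g = (Vk k).ι := fun k => by
    change (Sigma.ι _ k ≫ e.hom) ≫ g = _
    rw [Category.assoc]
    exact he k
  have hsoi : ∀ k, IsOpenImmersion (s k) := fun k => inferInstance
  let Wk : ι → Z.Opens := fun k => i ⁻¹ᵁ Vk k
  have hcomm : ∀ k, (Wk k).ι ≫ i = ((i ∣_ Vk k) ≫ s k) ≫ g := fun k => by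
    rw [Category.assoc, hs]
    exact (morphismRestrict_ι i (Vk k)).symm
  let α : ∀ k, (Wk k : Scheme.{u}) ⟶ V := fun k => sq.lift (Wk k).ι ((i ∣_ Vk k) ≫ s k) (hcomm k)
  have hα1 : ∀ k, α k ≫ φ = (Wk k).ι := fun k => sq.lift_fst _ _ _
  have hα2 : ∀ k, α k ≫ ψ = (i ∣_ Vk k) ≫ s k := fun k => sq.lift_snd _ _ _
  have hpb : ∀ k, IsPullback (α k) (i ∣_ Vk k) ψ (s k) := fun k => by
    refine IsPullback.of_right ?_ (hα2 k) sq
    rw [hα1, hs]
    exact (isPullback_morphismRestrict i (Vk k)).flip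
  have hαoi : ∀ k, IsOpenImmersion (α k) := fun k =>
    MorphismProperty.of_isPullback (P := @IsOpenImmersion) (hpb k).flip (hsoi k)
  have hrange : ∀ k, Set.range (α k) = ψ ⁻¹' Set.range (s k) := fun k =>
    range_fst_of_isPullback (hpb k)
  -- the ranges of the `s k` are disjoint and cover
  have hsdisj : ∀ k k', k ≠ k' → Disjoint (Set.range (s k)) (Set.range (s k')) := by
    intro k k' hne
    rw [Set.disjoint_iff]
    rintro _ ⟨⟨x, rfl⟩, ⟨y, hy⟩⟩
    have h1 : Sigma.ι (fun k => (Vk k : Scheme.{u})) k' y =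
        Sigma.ι (fun k => (Vk k : Scheme.{u})) k x := by
      apply e.hom.homeomorph.injective
      exact hy
    have h2 := disjoint_opensRange_sigmaι (fun k => (Vk k : Scheme.{u})) k k' hne
    rw [disjoint_iff] at h2
    have h3 : Sigma.ι (fun k => (Vk k : Scheme.{u})) k x ∈
        ((Sigma.ι (fun k => (Vk k : Scheme.{u})) k).opensRange ⊓
          (Sigma.ι (fun k => (Vk k : Scheme.{u})) k').opensRange : (∐ fun k => (Vk k : Scheme.{u})).Opens) :=
      ⟨⟨x, rfl⟩, ⟨y, h1⟩⟩
    rw [h2] at h3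
    exact h3
  have hscov : ∀ u : U, ∃ k, u ∈ Set.range (s k) := by
    intro u
    obtain ⟨⟨k, x⟩, hx⟩ := (sigmaMk (fun k => (Vk k : Scheme.{u}))).surjective (e.inv u)
    refine ⟨k, x, ?_⟩
    change e.hom (Sigma.ι (fun k => (Vk k : Scheme.{u})) k x) = u
    rw [← sigmaMk_mk, hx]
    change (e.inv ≫ e.hom) u = u
    rw [e.inv_hom_id]
    rfl
  have hαdisj : ∀ k k', k ≠ k' → Disjoint (Set.range (α k)) (Set.range (α k')) := by
    intro k k' hne
    rw [hrange, hrange]
    exact (hsdisj k k' hne).preimage _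
  have hαcov : ∀ v : V, ∃ k, v ∈ Set.range (α k) := by
    intro v
    obtain ⟨k, hk⟩ := hscov (ψ v)
    exact ⟨k, by rw [hrange]; exact hk⟩
  -- finiteness
  obtain ⟨F, hF⟩ := isCompact_univ.elim_finite_subcover (fun k => Set.range (α k))
    (fun k => (α k).isOpenEmbedding.isOpen_range)
    (fun v _ => Set.mem_iUnion.2 (hαcov v))
  let ι' : Type u := {k : ι // Nonempty (Wk k : Scheme.{u})}
  have hfin : Finite ι' := by
    have hsub : ∀ k : ι', k.1 ∈ F := by
      rintro ⟨k, ⟨w⟩⟩
      have hv : α k w ∈ ⋃ k' ∈ F, Set.range (α k') := hF (Set.mem_univ _)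
      simp only [Set.mem_iUnion, exists_prop] at hv
      obtain ⟨k', hk'F, hk'⟩ := hv
      by_cases hkk : k = k'
      · change k ∈ F
        rw [hkk]; exact hk'F
      · exact absurd hk' (Set.disjoint_left.1 (hαdisj k k' hkk) ⟨w, rfl⟩)
    exact Finite.of_injective (fun k : ι' => (⟨k.1, hsub k⟩ : F))
      (fun a b hab => Subtype.ext (congrArg (fun z : F => z.1) hab))
  let W' : ι' → Z.Opens := fun k => Wk k.1
  let α' : ∀ k : ι', (W' k : Scheme.{u}) ⟶ V := fun k => α k.1
  have hα'oi : ∀ k, IsOpenImmersion (α' k) := fun k => hαoi k.1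
  have hcov : ⨆ k, (α' k).opensRange = ⊤ := by
    rw [eq_top_iff]
    intro v _
    obtain ⟨k, w, hw⟩ := hαcov v
    rw [Opens.mem_iSup]
    exact ⟨⟨k, ⟨w⟩⟩, w, hw⟩
  have hdisj : Pairwise (Disjoint on (α' · |>.opensRange)) := by
    intro k k' hne
    change Disjoint (α' k).opensRange (α' k').opensRange
    have hne' : k.1 ≠ k'.1 := fun h => hne (Subtype.ext h)
    have := hαdisj k.1 k'.1 hne'
    rw [disjoint_iff]
    ext v
    simp only [Opens.coe_inf, Opens.coe_bot, Set.mem_inter_iff, Set.mem_empty_iff_false,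
      iff_false, not_and]
    intro h1 h2
    exact Set.disjoint_left.1 this h1 h2
  obtain ⟨hc⟩ := nonempty_isColimit_cofanMk_of α' hcov hdisj
  let e' : (∐ fun k => (W' k : Scheme.{u})) ≅ V :=
    (coproductIsCoproduct _).coconePointUniqueUpToIso hc
  refine ⟨ι', hfin, W', e', fun k => ?_⟩
  have h1 : Sigma.ι (fun k => (W' k : Scheme.{u})) k ≫ e'.hom = α' k :=
    (coproductIsCoproduct _).comp_coconePointUniqueUpToIso_hom hc ⟨k⟩
  rw [← Category.assoc, h1]
  exact hα1 k.1

end Groth.Agent.Lib.Helper22.NormalSplit
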