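import Groth.Agent.Lib.Helper22.NormalSplit.Main
import Groth.Agent.Lib.Helper22.NormalSplit.Lift
import Groth.Agent.Lib.Helper22.NormalSplit.Pull

/-!
# Affine étale schemes over a closed subscheme of a normal integral affine scheme with separably
closed function field (helper22)
-/

set_option autoImplicit false
set_option linter.unusedSectionVars false
universe u
open CategoryTheory CategoryTheory.Limits AlgebraicGeometry Opposite TopologicalSpace

namespace Groth.Agent.Lib.Helper22.NormalSplit

theorem exists_finite_split_over_closed {V Z X : Scheme.{u}} [IsAffine X] [IsIntegral X]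
    (hN : ∀ x : X, IsIntegrallyClosed (X.presheaf.stalk x)) [IsSepClosed X.functionField]
    (i : Z ⟶ X) [IsClosedImmersion i] (φ : V ⟶ Z) [Etale φ] [IsAffine V] :
    ∃ (ι : Type u) (_ : Finite ι) (W : ι → Z.Opens) (e : (∐ fun k => (W k : Scheme.{u})) ≅ V),
      ∀ k, Sigma.ι (fun k => (W k : Scheme.{u})) k ≫ e.hom ≫ φ = (W k).ι := by
  obtain ⟨hZaff, ha⟩ := IsClosedImmersion.isAffine_surjective_of_isAffine i
  have hb : (φ.appTop).hom.Etale := (HasRingHomProperty.iff_of_isAffine (P := @Etale)).1 ‹_›
  obtain ⟨B, c, d, hc, hpo⟩ := exists_etale_lift_pushout i.appTop ha φ.appTop hb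
  have hpb := isPullback_SpecMap_of_isPushout i.appTop c φ.appTop d hpo
  let g : Spec B ⟶ X := Spec.map c ≫ X.isoSpec.inv
  let ψ : V ⟶ Spec B := V.isoSpec.hom ≫ Spec.map d
  have sq : IsPullback φ ψ i g := by
    refine IsPullback.of_iso hpb V.isoSpec.symm Z.isoSpec.symm (Iso.refl _) X.isoSpec.symm
      ?_ ?_ ?_ ?_
    · exact Scheme.isoSpec_inv_naturality φ
    · simp [ψ]
    · exact Scheme.isoSpec_inv_naturality i
    · simp [g]
  have hget : Etale (Spec.map c) := HasRingHomProperty.Spec_iff.2 hc
  have hg : Etale g := inferInstanceAs (Etale (Spec.map c ≫ X.isoSpec.inv))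
  have hsep : IsSeparated g := inferInstance
  obtain ⟨ι, Vk, e, he⟩ := exists_split g hN
  exact exists_finite_split_of_isPullback sq ι Vk e he

end Groth.Agent.Lib.Helper22.NormalSplit
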