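import Groth.Agent.Lib.Helper22.NormalUnit.GenFibre
import Groth.Agent.Lib.Helper24.EtaleNormal
import Mathlib.AlgebraicGeometry.Properties

/-!
# Decomposition of a scheme étale over a normal integral scheme into integral opens (helper22)
-/

set_option autoImplicit false
set_option linter.unusedSectionVars false
universe u
open CategoryTheory CategoryTheory.Limits AlgebraicGeometry Opposite TopologicalSpace

namespace Groth.Agent.Lib.Helper22.NormalSplit

open Groth.Agent.Lib.Helper22.NormalUnit

variable {X U : Scheme.{u}} [IsIntegral X] (g : U ⟶ X) [Etale g]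

/-- An irreducible open of a scheme étale over an integral scheme has a generic point, lying over
the generic point. -/
theorem exists_generic_of_irreducible (N : U.Opens) (hN : IsIrreducible (N : Set U)) :
    ∃ ν : U, ν ∈ N ∧ g ν = genericPoint X ∧ ∀ z ∈ N, ν ⤳ z := by
  obtain ⟨ν, hν⟩ := QuasiSober.sober hN.closure isClosed_closure
  obtain ⟨p, hp⟩ := hN.nonempty
  have hνN : ν ∈ N := by
    change ν ∈ (N : Set U)
    rw [hν.mem_open_set_iff N.isOpen]
    exact ⟨p, subset_closure hp, hp⟩
  have hspec : ∀ z : U, z ∈ N → ν ⤳ z := by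
    intro z hz
    rw [specializes_iff_mem_closure, hν.def]
    exact subset_closure hz
  have hη : genericPoint X ⤳ g ν := (genericPoint_spec X).specializes (Set.mem_univ _)
  obtain ⟨ν'', hν'', hfν''⟩ := Flat.generalizingMap g hη
  have hν''N : ν'' ∈ N := hν''.mem_open N.isOpen hνN
  have hνeq : ν'' = ν := (hν''.antisymm (hspec ν'' hν''N)).eq
  exact ⟨ν, hνN, by rw [← hνeq]; exact hfν'', hspec⟩

/-- The index set: points of the generic fibre. -/
abbrev GenFib : Type u := {ξ : U // g ξ = genericPoint X}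

/-- The component of a point of the generic fibre. -/
def comp (ξ : GenFib g) : Set U := {u | ξ.1 ⤳ u}

variable (hN : ∀ x : X, IsIntegrallyClosed (X.presheaf.stalk x))

include g hN in
lemma exists_irr_nbhd (u : U) : ∃ N : U.Opens, u ∈ N ∧ IsIrreducible (N : Set U) :=
  exists_irreducible_open g u (Groth.Agent.Lib.Helper24.ENorm.stalk_of_etale hN g u).1

include hN in
lemma subset_comp (ξ : GenFib g) (u : U) (hu : u ∈ comp g ξ) (N : U.Opens) (huN : u ∈ N)
    (hNirr : IsIrreducible (N : Set U)) : (N : Set U) ⊆ comp g ξ := by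
  obtain ⟨ν, hνN, hgν, hν⟩ := exists_generic_of_irreducible g N hNirr
  have hξN : ξ.1 ∈ N := Specializes.mem_open hu N.isOpen huN
  have : ν = ξ.1 := eq_of_over_generic g N hNirr ν ξ.1 hνN hξN hgν ξ.2
  intro z hz
  change ξ.1 ⤳ z
  rw [← this]
  exact hν z hz

include hN in
lemma isOpen_comp (ξ : GenFib g) : IsOpen (comp g ξ) := by
  rw [isOpen_iff_forall_mem_open]
  intro u hu
  obtain ⟨N, huN, hNirr⟩ := exists_irr_nbhd g hN u
  exact ⟨N, subset_comp g hN ξ u hu N huN hNirr, N.isOpen, huN⟩

include hN in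
lemma comp_eq_of_mem (ξ ξ' : GenFib g) (u : U) (h : u ∈ comp g ξ) (h' : u ∈ comp g ξ') :
    ξ = ξ' := by
  obtain ⟨N, huN, hNirr⟩ := exists_irr_nbhd g hN u
  have h1 : ξ.1 ∈ N := Specializes.mem_open h N.isOpen huN
  have h2 : ξ'.1 ∈ N := Specializes.mem_open h' N.isOpen huN
  exact Subtype.ext (eq_of_over_generic g N hNirr ξ.1 ξ'.1 h1 h2 ξ.2 ξ'.2)

lemma exists_mem_comp (u : U) : ∃ ξ : GenFib g, u ∈ comp g ξ := by
  have hη : genericPoint X ⤳ g u := (genericPoint_spec X).specializes (Set.mem_univ _)
  obtain ⟨ξ, hξ, hgξ⟩ := Flat.generalizingMap g hη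
  exact ⟨⟨ξ, hgξ⟩, hξ⟩

/-- The component as an open subscheme. -/
def compOpen (ξ : GenFib g) : U.Opens := ⟨comp g ξ, isOpen_comp g hN ξ⟩

lemma isIrreducible_comp (ξ : GenFib g) : IsIrreducible (comp g ξ) := by
  have : comp g ξ = closure {ξ.1} := by
    ext u
    exact specializes_iff_mem_closure
  rw [this]
  exact isIrreducible_singleton.closure

include g hN in
lemma isReduced_source : IsReduced U := by
  have : ∀ u : U, _root_.IsReduced (U.presheaf.stalk u) := by
    intro u
    have := (Groth.Agent.Lib.Helper24.ENorm.stalk_of_etale hN g u).1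
    infer_instance
  exact isReduced_of_isReduced_stalk U

instance isIntegral_compOpen (ξ : GenFib g) : IsIntegral (compOpen g hN ξ : Scheme.{u}) := by
  have : IsReduced U := isReduced_source g hN
  have : IrreducibleSpace ↥(compOpen g hN ξ : Scheme.{u}) :=
    Subtype.irreducibleSpace (isIrreducible_comp g ξ)
  exact isIntegral_of_irreducibleSpace_of_isReduced _

/-- The generic point of a component is the given point of the generic fibre. -/
lemma ι_genericPoint (ξ : GenFib g) :
    (compOpen g hN ξ).ι (genericPoint (compOpen g hN ξ : Scheme.{u})) = ξ.1 := by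
  set V := compOpen g hN ξ
  let ξ' : (V : Scheme.{u}) := ⟨ξ.1, (specializes_rfl : ξ.1 ⤳ ξ.1)⟩
  have h1 : genericPoint (V : Scheme.{u}) ⤳ ξ' :=
    (genericPoint_spec (V : Scheme.{u})).specializes (Set.mem_univ _)
  have h2 : V.ι (genericPoint (V : Scheme.{u})) ⤳ ξ.1 := h1.map V.ι.continuous
  have h3 : ξ.1 ⤳ V.ι (genericPoint (V : Scheme.{u})) :=
    (genericPoint (V : Scheme.{u})).2
  exact (h2.antisymm h3).eq

end Groth.Agent.Lib.Helper22.NormalSplit
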