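import Groth.Agent.Lib.Helper22.NormalSplit.Components
import Groth.Agent.Lib.Helper12.QFBirat
import Groth.Agent.Lib.Helper14.EtaleLQF

/-!
# Separated étale schemes over a normal integral scheme with separably closed function field
(helper22)
-/

set_option autoImplicit false
set_option linter.unusedSectionVars false
universe u
open CategoryTheory CategoryTheory.Limits AlgebraicGeometry Opposite TopologicalSpace

namespace Groth.Agent.Lib.Helper22.NormalSplit

/-- A formally unramified, essentially finite type extension of a separably closed field is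
trivial. -/
lemma bijective_of_field_sepClosed {K L : Type u} [Field K] [Field L] [IsSepClosed K]
    (φ : K →+* L) (h1 : φ.FormallyUnramified) (h2 : φ.EssFiniteType) : Function.Bijective φ := by
  algebraize [φ]
  have : Algebra.IsSeparable K L := Algebra.FormallyUnramified.isSeparable K L
  exact ⟨φ.injective, IsSepClosed.algebraMap_surjective K L⟩

lemma isIso_of_generic {X : Scheme.{u}} [IsIntegral X] [IsSepClosed X.functionField] (x : X)
    (hx : x = genericPoint X) {L : CommRingCat.{u}} (hL : IsField L)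
    (φ : X.presheaf.stalk x ⟶ L) (h1 : φ.hom.FormallyUnramified) (h2 : φ.hom.EssFiniteType) :
    IsIso φ := by
  subst hx
  let _ : Field L := hL.toField
  have hbij : Function.Bijective φ.hom :=
    bijective_of_field_sepClosed (K := X.functionField) (L := L) φ.hom h1 h2
  exact (ConcreteCategory.isIso_iff_bijective φ).2 hbij

variable {X U : Scheme.{u}} [IsIntegral X] (g : U ⟶ X) [Etale g]
  (hN : ∀ x : X, IsIntegrallyClosed (X.presheaf.stalk x))

/-- The restriction of `g` to a component. -/
abbrev gComp (ξ : GenFib g) : (compOpen g hN ξ : Scheme.{u}) ⟶ X := (compOpen g hN ξ).ι ≫ g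

lemma gComp_genericPoint (ξ : GenFib g) :
    gComp g hN ξ (genericPoint (compOpen g hN ξ : Scheme.{u})) = genericPoint X := by
  change g ((compOpen g hN ξ).ι (genericPoint (compOpen g hN ξ : Scheme.{u}))) = _
  rw [ι_genericPoint]
  exact ξ.2

lemma isIso_stalkMap_gComp [IsSepClosed X.functionField] (ξ : GenFib g) :
    IsIso ((gComp g hN ξ).stalkMap (genericPoint (compOpen g hN ξ : Scheme.{u}))) := by
  apply isIso_of_generic _ (gComp_genericPoint g hN ξ)
  · exact (inferInstance : Field (compOpen g hN ξ : Scheme.{u}).functionField).toIsField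
  · exact FormallyUnramified.stalkMap (gComp g hN ξ) _
  · exact LocallyOfFiniteType.stalkMap (gComp g hN ξ) _

lemma isOpenImmersion_gComp [IsSepClosed X.functionField] [IsSeparated g] (ξ : GenFib g) :
    IsOpenImmersion (gComp g hN ξ) := by
  have : LocallyQuasiFinite (gComp g hN ξ) :=
    Groth.Agent.Lib.Helper14.AS.etale_locallyQuasiFinite _
  exact (H12S4809.main hN (gComp g hN ξ) (gComp_genericPoint g hN ξ)
    (isIso_stalkMap_gComp g hN ξ)).2 inferInstance

include hN in
open scoped Function in
/-- **Separated étale schemes over a normal integral scheme with separably closed function field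
are disjoint unions of opens.** -/
theorem exists_split [IsSepClosed X.functionField] [IsSeparated g] :
    ∃ (ι : Type u) (V : ι → X.Opens) (e : (∐ fun i => (V i : Scheme.{u})) ≅ U),
      ∀ i, Sigma.ι (fun i => (V i : Scheme.{u})) i ≫ e.hom ≫ g = (V i).ι := by
  classical
  have hoi : ∀ ξ : GenFib g, IsOpenImmersion (gComp g hN ξ) := isOpenImmersion_gComp g hN
  let V : GenFib g → X.Opens := fun ξ => (gComp g hN ξ).opensRange
  let iso : ∀ ξ, (V ξ : Scheme.{u}) ≅ (compOpen g hN ξ : Scheme.{u}) := fun ξ =>
    IsOpenImmersion.isoOfRangeEq (V ξ).ι (gComp g hN ξ) (by simp [V])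
  have hiso : ∀ ξ, (iso ξ).hom ≫ gComp g hN ξ = (V ξ).ι :=
    fun ξ => IsOpenImmersion.isoOfRangeEq_hom_fac _ _ _
  let α : ∀ ξ, (V ξ : Scheme.{u}) ⟶ U := fun ξ => (iso ξ).hom ≫ (compOpen g hN ξ).ι
  have hα : ∀ ξ, IsOpenImmersion (α ξ) := fun ξ => inferInstance
  have hrange : ∀ ξ, (α ξ).opensRange = compOpen g hN ξ := by
    intro ξ
    simp [α, Scheme.Hom.opensRange_comp_of_isIso]
  have hcov : ⨆ ξ, (α ξ).opensRange = ⊤ := by
    rw [eq_top_iff]
    intro u _
    obtain ⟨ξ, hξ⟩ := exists_mem_comp g u
    rw [Opens.mem_iSup]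
    exact ⟨ξ, by rw [hrange]; exact hξ⟩
  have hdisj : Pairwise (Disjoint on (α · |>.opensRange)) := by
    intro ξ ξ' hne
    change Disjoint (α ξ).opensRange (α ξ').opensRange
    rw [hrange, hrange, disjoint_iff]
    ext u
    simp only [Opens.coe_inf, Opens.coe_bot, Set.mem_inter_iff, Set.mem_empty_iff_false,
      iff_false, not_and]
    intro h h'
    exact hne (comp_eq_of_mem g hN ξ ξ' u h h')
  obtain ⟨hc⟩ := nonempty_isColimit_cofanMk_of α hcov hdisj
  let e : (∐ fun ξ => (V ξ : Scheme.{u})) ≅ U :=
    (coproductIsCoproduct _).coconePointUniqueUpToIso hc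
  refine ⟨GenFib g, V, e, fun ξ => ?_⟩
  have h1 : Sigma.ι (fun ξ => (V ξ : Scheme.{u})) ξ ≫ e.hom = α ξ :=
    (coproductIsCoproduct _).comp_coconePointUniqueUpToIso_hom hc ⟨ξ⟩
  rw [← Category.assoc, h1]
  change ((iso ξ).hom ≫ (compOpen g hN ξ).ι) ≫ g = _
  rw [Category.assoc]
  exact hiso ξ

end Groth.Agent.Lib.Helper22.NormalSplit
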