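import Mathlib.AlgebraicGeometry.Limits
import Mathlib.AlgebraicGeometry.Morphisms.Finite
import Mathlib.AlgebraicGeometry.Morphisms.UniversallyClosed

/-!
# Sections of split finite covers (helper22)
-/

set_option autoImplicit false
universe u
open CategoryTheory CategoryTheory.Limits AlgebraicGeometry Opposite TopologicalSpace

namespace Groth.Agent.Lib.Helper22.NormalSplit

open scoped Function in
/-- A finite surjective morphism whose source is a finite disjoint union of opens of the target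
has a section. -/
theorem exists_section_of_finite_split {V Z : Scheme.{u}} (φ : V ⟶ Z) [IsFinite φ]
    [Surjective φ] (ι : Type u) [Finite ι] (W : ι → Z.Opens)
    (e : (∐ fun k => (W k : Scheme.{u})) ≅ V)
    (he : ∀ k, Sigma.ι (fun k => (W k : Scheme.{u})) k ≫ e.hom ≫ φ = (W k).ι) :
    ∃ s : Z ⟶ V, s ≫ φ = 𝟙 Z := by
  classical
  let t : ∀ k, (W k : Scheme.{u}) ⟶ V := fun k => Sigma.ι (fun k => (W k : Scheme.{u})) k ≫ e.hom
  have ht : ∀ k, t k ≫ φ = (W k).ι := fun k => by
    change (Sigma.ι _ k ≫ e.hom) ≫ φ = _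
    rw [Category.assoc]; exact he k
  -- the ranges of the `t k` are disjoint, open and cover
  have htcov : ∀ v : V, ∃ k, v ∈ Set.range (t k) := by
    intro v
    obtain ⟨⟨k, x⟩, hx⟩ := (sigmaMk (fun k => (W k : Scheme.{u}))).surjective (e.inv v)
    refine ⟨k, x, ?_⟩
    change e.hom (Sigma.ι (fun k => (W k : Scheme.{u})) k x) = v
    rw [← sigmaMk_mk, hx]
    change (e.inv ≫ e.hom) v = v
    rw [e.inv_hom_id]
    rfl
  have htdisj : ∀ k k', k ≠ k' → Disjoint (Set.range (t k)) (Set.range (t k')) := by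
    intro k k' hne
    rw [Set.disjoint_iff]
    rintro _ ⟨⟨x, rfl⟩, ⟨y, hy⟩⟩
    have h1 : Sigma.ι (fun k => (W k : Scheme.{u})) k' y =
        Sigma.ι (fun k => (W k : Scheme.{u})) k x := by
      apply e.hom.homeomorph.injective
      exact hy
    have h2 := disjoint_opensRange_sigmaι (fun k => (W k : Scheme.{u})) k k' hne
    rw [disjoint_iff] at h2
    have h3 : Sigma.ι (fun k => (W k : Scheme.{u})) k x ∈
        ((Sigma.ι (fun k => (W k : Scheme.{u})) k).opensRange ⊓
          (Sigma.ι (fun k => (W k : Scheme.{u})) k').opensRange :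
            (∐ fun k => (W k : Scheme.{u})).Opens) :=
      ⟨⟨x, rfl⟩, ⟨y, h1⟩⟩
    rw [h2] at h3
    exact h3
  have htclosed : ∀ k, IsClosed (Set.range (t k)) := by
    intro k
    have : Set.range (t k) = (⋃ k' ∈ {k' | k' ≠ k}, Set.range (t k'))ᶜ := by
      ext v
      simp only [Set.mem_compl_iff, Set.mem_iUnion, exists_prop, not_exists, not_and]
      constructor
      · intro hv k' hne hv'
        exact Set.disjoint_left.1 (htdisj k k' (Ne.symm hne)) hv hv'
      · intro hv
        obtain ⟨k', hk'⟩ := htcov v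
        by_cases hkk : k' = k
        · rw [← hkk]; exact hk'
        · exact absurd hk' (hv k' hkk)
    rw [this, isClosed_compl_iff]
    exact isOpen_biUnion fun k' _ => (t k').isOpenEmbedding.isOpen_range
  have hWclosed : ∀ k, IsClosed (W k : Set Z) := by
    intro k
    have h1 : (W k : Set Z) = φ '' Set.range (t k) := by
      rw [← Set.range_comp]
      have : (⇑φ ∘ ⇑(t k)) = ⇑(t k ≫ φ) := rfl
      rw [this, ht]
      exact (Scheme.Opens.range_ι (W k)).symm
    rw [h1]
    exact φ.isClosedMap _ (htclosed k)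
  have hWcov : ∀ z : Z, ∃ k, z ∈ W k := by
    intro z
    obtain ⟨v, rfl⟩ := φ.surjective z
    obtain ⟨k, x, rfl⟩ := htcov v
    refine ⟨k, ?_⟩
    have : φ (t k x) = (W k).ι x := by
      change (t k ≫ φ) x = _
      rw [ht]
    rw [this]
    exact x.2
  -- an ordering of the index set
  obtain ⟨n, ⟨ε⟩⟩ := Finite.exists_equiv_fin ι
  let Zk : ι → Z.Opens := fun k =>
    ⟨(W k : Set Z) \ ⋃ k' ∈ {k' | ε k' < ε k}, (W k' : Set Z),
      (W k).isOpen.sdiff (Set.Finite.isClosed_biUnion (Set.toFinite _) fun k' _ => hWclosed k')⟩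
  have hZW : ∀ k, Zk k ≤ W k := fun k z hz => hz.1
  have hcov : ⨆ k, ((Zk k).ι).opensRange = ⊤ := by
    rw [eq_top_iff]
    intro z _
    obtain ⟨k, hk, hmin⟩ := Set.exists_min_image {k | z ∈ W k} (fun k => ε k) (Set.toFinite _)
      (hWcov z)
    rw [Opens.mem_iSup]
    refine ⟨k, ?_⟩
    rw [Scheme.Opens.opensRange_ι]
    refine ⟨hk, ?_⟩
    simp only [Set.mem_iUnion, exists_prop, not_exists, not_and]
    intro k' hlt hk'
    exact absurd (hmin k' hk') (not_le.2 hlt)
  have hdisj : Pairwise (Disjoint on (fun k => ((Zk k).ι).opensRange)) := by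
    intro k k' hne
    change Disjoint ((Zk k).ι).opensRange ((Zk k').ι).opensRange
    rw [Scheme.Opens.opensRange_ι, Scheme.Opens.opensRange_ι, disjoint_iff]
    ext z
    simp only [Opens.coe_inf, Opens.coe_bot, Set.mem_inter_iff, Set.mem_empty_iff_false,
      iff_false, not_and]
    intro h1 h2
    have hne' : ε k ≠ ε k' := fun h => hne (ε.injective h)
    rcases lt_or_gt_of_ne hne' with hlt | hlt
    · exact h2.2 (Set.mem_biUnion (show k ∈ {k'' | ε k'' < ε k'} from hlt) h1.1)
    · exact h1.2 (Set.mem_biUnion (show k' ∈ {k'' | ε k'' < ε k} from hlt) h2.1)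
  obtain ⟨hc⟩ := nonempty_isColimit_cofanMk_of (fun k => (Zk k).ι) hcov hdisj
  let α : ∀ k, (Zk k : Scheme.{u}) ⟶ V := fun k => Z.homOfLE (hZW k) ≫ t k
  have hα : ∀ k, α k ≫ φ = (Zk k).ι := fun k => by
    change (Z.homOfLE (hZW k) ≫ t k) ≫ φ = _
    rw [Category.assoc, ht, Scheme.homOfLE_ι]
  refine ⟨Cofan.IsColimit.desc hc α, ?_⟩
  refine Cofan.IsColimit.hom_ext hc _ _ fun k => ?_
  rw [← Category.assoc, Cofan.IsColimit.fac hc α k]
  change α k ≫ φ = (Zk k).ι ≫ 𝟙 Z
  rw [hα, Category.comp_id]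

end Groth.Agent.Lib.Helper22.NormalSplit
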